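import Mathlib
import Groth.Agent.SLCommLib.Local

/-! Natural characters of `∏ GL_{n_i}` over a ring with connected spectrum. -/

universe u

namespace GLCharLib

open scoped LaurentPolynomial
open LaurentPolynomial (C T)

variable {R : Type u} [CommRing R]

theorem idem_trivial [ConnectedSpace (PrimeSpectrum R)] (e : R) (he : IsIdempotentElem e) :
    e = 0 ∨ e = 1 := by
  have hc : IsClopen (PrimeSpectrum.basicOpen e : Set (PrimeSpectrum R)) := by
    refine ⟨?_, (PrimeSpectrum.basicOpen e).2⟩
    rw [PrimeSpectrum.basicOpen_eq_zeroLocus_of_isIdempotentElem e he]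
    exact PrimeSpectrum.isClosed_zeroLocus _
  rcases isClopen_iff.mp hc with h | h
  · left
    exact he.eq_zero_of_isNilpotent ((PrimeSpectrum.basicOpen_eq_bot_iff e).1
      (SetLike.coe_injective (by simpa using h)))
  · right
    have hu : IsUnit e := by
      by_contra hnu
      obtain ⟨m, hm, hem⟩ := exists_max_ideal_of_mem_nonunits hnu
      exact (show (⟨m, hm.isPrime⟩ : PrimeSpectrum R) ∈ (PrimeSpectrum.basicOpen e : Set (PrimeSpectrum R)) by
        rw [h]; trivial) hem
    exact (IsIdempotentElem.iff_eq_one_of_isUnit hu).mp he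

/-- The unit `T`. -/
noncomputable def τ : (R[T;T⁻¹])ˣ where
  val := T 1
  inv := T (-1)
  val_inv := by rw [← LaurentPolynomial.T_add]; simp
  inv_val := by rw [← LaurentPolynomial.T_add]; simp

theorem τ_zpow (k : ℤ) : ((τ ^ k : (R[T;T⁻¹])ˣ) : R[T;T⁻¹]) = T k := by
  induction k with
  | zero => simp
  | succ i ih => rw [zpow_add_one, Units.val_mul, ih, LaurentPolynomial.T_add]; rfl
  | pred i ih => rw [zpow_sub_one, Units.val_mul, ih, LaurentPolynomial.T_sub]; rfl

/-- Evaluation of Laurent polynomials at a unit, as an algebra map. -/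
noncomputable def evalAlg (B : Type u) [CommRing B] [Algebra R B] (t : Bˣ) : R[T;T⁻¹] →ₐ[R] B where
  __ := LaurentPolynomial.eval₂ (algebraMap R B) t
  commutes' r := by
    show LaurentPolynomial.eval₂ _ t (algebraMap R R[T;T⁻¹] r) = _
    rw [← LaurentPolynomial.C_eq_algebraMap, LaurentPolynomial.eval₂_C]

theorem evalAlg_C_mul_T (B : Type u) [CommRing B] [Algebra R B] (t : Bˣ) (r : R) (n : ℤ) :
    evalAlg B t (C r * T n) = algebraMap R B r * ((t ^ n : Bˣ) : B) :=
  LaurentPolynomial.eval₂_C_mul_T _ _ r n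

theorem evalAlg_τ (B : Type u) [CommRing B] [Algebra R B] (t : Bˣ) :
    Units.map ((evalAlg (R := R) B t).toRingHom : R[T;T⁻¹] →* B) τ = t := by
  ext
  show LaurentPolynomial.eval₂ _ t (T 1) = _
  rw [LaurentPolynomial.eval₂_T, zpow_one]

theorem map_zpow_coe {B D : Type*} [CommRing B] [CommRing D] (f : B →+* D) (u : Bˣ) (n : ℤ) :
    (((Units.map (f : B →* D) u) ^ n : Dˣ) : D) = f ((u ^ n : Bˣ) : B) := by
  rw [← map_zpow]; rfl

theorem coeff_C_mul {S : Type*} [CommRing S] (r : S) (g : S[T;T⁻¹]) (k : ℤ) :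
    (C r * g).coeff k = r * g.coeff k := by
  rw [← LaurentPolynomial.smul_eq_C_mul]; rfl

section Nested

variable {L : Type u} [CommRing L] [Algebra R L]

theorem algebraMap_nested (r : R) :
    algebraMap R L[T;T⁻¹] r = C (algebraMap R L r) := by
  rw [IsScalarTower.algebraMap_apply R L L[T;T⁻¹], ← LaurentPolynomial.C_eq_algebraMap]

theorem eval_at_C (t : Lˣ) (g : R[T;T⁻¹]) :
    evalAlg L[T;T⁻¹] (Units.map ((C : L →+* L[T;T⁻¹]) : L →* L[T;T⁻¹]) t) g = C (evalAlg L t g) := by
  induction g using LaurentPolynomial.induction_on' with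
  | add p q hp hq => rw [map_add, map_add, map_add, hp, hq]
  | C_mul_T n r => rw [evalAlg_C_mul_T, evalAlg_C_mul_T, algebraMap_nested, map_zpow_coe, map_mul]

theorem coeff_eval_T (g : R[T;T⁻¹]) (l : ℤ) :
    (evalAlg L[T;T⁻¹] (τ (R := L)) g).coeff l = algebraMap R L (g.coeff l) := by
  induction g using LaurentPolynomial.induction_on' with
  | add p q hp hq =>
    rw [map_add, AddMonoidAlgebra.coeff_add, AddMonoidAlgebra.coeff_add, Finsupp.add_apply,
      Finsupp.add_apply, hp, hq, map_add]
  | C_mul_T n r =>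
    rw [evalAlg_C_mul_T, algebraMap_nested, τ_zpow, ← LaurentPolynomial.single_eq_C_mul_T,
      ← LaurentPolynomial.single_eq_C_mul_T, AddMonoidAlgebra.coeff_single, AddMonoidAlgebra.coeff_single,
      Finsupp.single_apply, Finsupp.single_apply]
    split_ifs <;> simp

theorem coeff_eval_mul_T (t : Lˣ) (g : R[T;T⁻¹]) (l : ℤ) :
    (evalAlg L[T;T⁻¹] (Units.map ((C : L →+* L[T;T⁻¹]) : L →* L[T;T⁻¹]) t * τ) g).coeff l =
      algebraMap R L (g.coeff l) * ((t ^ l : Lˣ) : L) := by
  induction g using LaurentPolynomial.induction_on' with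
  | add p q hp hq =>
    rw [map_add, AddMonoidAlgebra.coeff_add, AddMonoidAlgebra.coeff_add, Finsupp.add_apply,
      Finsupp.add_apply, hp, hq, map_add, add_mul]
  | C_mul_T n r =>
    rw [evalAlg_C_mul_T, mul_zpow, Units.val_mul, algebraMap_nested, map_zpow_coe, τ_zpow, ← mul_assoc,
      ← map_mul, ← LaurentPolynomial.single_eq_C_mul_T, ← LaurentPolynomial.single_eq_C_mul_T,
      AddMonoidAlgebra.coeff_single, AddMonoidAlgebra.coeff_single, Finsupp.single_apply,
      Finsupp.single_apply]
    split_ifs with h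
    · subst h; rfl
    · simp

theorem evalAlg_self (g : R[T;T⁻¹]) : evalAlg R[T;T⁻¹] τ g = g := by
  induction g using LaurentPolynomial.induction_on' with
  | add p q hp hq => rw [map_add, hp, hq]
  | C_mul_T n r => rw [evalAlg_C_mul_T, τ_zpow, ← LaurentPolynomial.C_eq_algebraMap]

end Nested

/-- A family of characters of `𝔾ₘ`, natural in the algebra, is a power map. -/
theorem char_Gm [ConnectedSpace (PrimeSpectrum R)]
    (χ : ∀ (B : Type u) [CommRing B] [Algebra R B], Bˣ →* Bˣ)
    (hχ : ∀ (B D : Type u) [CommRing B] [Algebra R B] [CommRing D] [Algebra R D] (φ : B →ₐ[R] D) (t : Bˣ),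
      χ D (Units.map (φ : B →* D) t) = Units.map (φ : B →* D) (χ B t)) :
    ∃ k : ℤ, ∀ (B : Type u) [CommRing B] [Algebra R B] (t : Bˣ), χ B t = t ^ k := by
  classical
  let L := R[T;T⁻¹]
  let f : Lˣ := χ L τ
  have hf : ∀ (B : Type u) [CommRing B] [Algebra R B] (t : Bˣ),
      (χ B t : B) = evalAlg (R := R) B t f := by
    intro B _ _ t
    conv_lhs => rw [← evalAlg_τ (R := R) B t]
    exact congrArg Units.val (hχ L B (evalAlg (R := R) B t) τ)
  let a : ℤ → R := fun k => (f : R[T;T⁻¹]).coeff k
  have key : ∀ k l : ℤ, a k * a l = if l = k then a k else 0 := by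
    intro k l
    let x : (R[T;T⁻¹][T;T⁻¹])ˣ :=
      Units.map ((C : R[T;T⁻¹] →+* R[T;T⁻¹][T;T⁻¹]) : R[T;T⁻¹] →* R[T;T⁻¹][T;T⁻¹]) τ
    have hmul : evalAlg (R := R) _ (x * τ) (f : R[T;T⁻¹]) =
        evalAlg (R := R) _ x (f : R[T;T⁻¹]) * evalAlg (R := R) _ τ (f : R[T;T⁻¹]) := by
      rw [← hf, ← hf, ← hf, map_mul, Units.val_mul]
    have h1 : C (a l) * T l = (f : R[T;T⁻¹]) * C (a l) := by
      have h := congrArg (fun z : R[T;T⁻¹][T;T⁻¹] => z.coeff l) hmul
      simp only [x, coeff_eval_mul_T, eval_at_C, evalAlg_self, τ_zpow,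
        ← LaurentPolynomial.C_eq_algebraMap, ← LaurentPolynomial.smul_eq_C_mul,
        AddMonoidAlgebra.coeff_smul, Finsupp.smul_apply, smul_eq_mul, coeff_eval_T] at h
      exact (LaurentPolynomial.smul_eq_C_mul _ _).symm.trans h
    have h2 := congrArg (fun g : R[T;T⁻¹] => g.coeff k) h1
    have e1 : (C (a l) * T l : R[T;T⁻¹]).coeff k = a l * (T l : R[T;T⁻¹]).coeff k := coeff_C_mul _ _ _
    have e2 : ((f : R[T;T⁻¹]) * C (a l)).coeff k = a l * a k := by rw [mul_comm]; exact coeff_C_mul _ _ _
    replace h2 : a l * (T l : R[T;T⁻¹]).coeff k = a l * a k := e1.symm.trans (h2.trans e2)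
    rw [LaurentPolynomial.T_apply] at h2
    rw [mul_comm]
    refine h2.symm.trans ?_
    split_ifs with h
    · rw [mul_one, h]
    · rw [mul_zero]
  obtain ⟨q⟩ := (inferInstance : Nonempty (PrimeSpectrum R))
  have : Nontrivial R := PrimeSpectrum.nontrivial q
  obtain ⟨k, hk⟩ : ∃ k, a k ≠ 0 := by
    by_contra h
    push Not at h
    exact f.ne_zero (LaurentPolynomial.ext fun k => by simpa using h k)
  have hk1 : a k = 1 := by
    refine (idem_trivial (a k) ?_).resolve_left hk
    show a k * a k = a k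
    rw [key, if_pos rfl]
  have hfk : (f : L) = T k := LaurentPolynomial.ext fun l => by
    rw [LaurentPolynomial.T_apply]
    split_ifs with h
    · subst h; exact hk1
    · have := key l k
      rw [hk1, mul_one, if_neg h] at this
      exact this
  refine ⟨k, fun B _ _ t => Units.ext ?_⟩
  rw [hf, hfk]
  exact LaurentPolynomial.eval₂_T _ _ k

section General

variable {n : ℕ}

/-- Diagonal matrices supported at one index, as a homomorphism. -/
def diagHom {B : Type u} [CommRing B] (j : Fin n) : Bˣ →* GL (Fin n) B where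
  toFun t := SLCommLib.diagU (Pi.mulSingle j t)
  map_one' := by
    ext a b
    simp [SLCommLib.diagU, Matrix.one_apply, Matrix.diagonal_apply]
  map_mul' s t := by
    apply Units.ext
    show Matrix.diagonal _ = Matrix.diagonal _ * Matrix.diagonal _
    rw [Matrix.diagonal_mul_diagonal]
    congr 1
    funext a
    rw [Pi.mulSingle_mul, Pi.mul_apply, Units.val_mul]

theorem det_diagHom {B : Type u} [CommRing B] (j : Fin n) (t : Bˣ) :
    Matrix.GeneralLinearGroup.det (diagHom j t) = t := by
  apply Units.ext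
  show (Matrix.diagonal fun a => ((Pi.mulSingle j t : Fin n → Bˣ) a : B)).det = _
  rw [Matrix.det_diagonal, Finset.prod_eq_single j (fun b _ hb => by simp [hb]) (by simp),
    Pi.mulSingle_eq_same]

theorem map_diagHom {B D : Type u} [CommRing B] [CommRing D] (f : B →+* D) (j : Fin n) (t : Bˣ) :
    Matrix.GeneralLinearGroup.map f (diagHom j t) = diagHom j (Units.map (f : B →* D) t) := by
  apply Units.ext
  show (Matrix.diagonal fun a => ((Pi.mulSingle j t : Fin n → Bˣ) a : B)).map f = Matrix.diagonal _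
  rw [Matrix.diagonal_map (map_zero f)]
  congr 1
  funext a
  rcases eq_or_ne a j with rfl | h
  · simp
  · simp [h]

/-- A natural character of `GL_n` kills matrices of determinant one. -/
theorem eq_one_of_det
    (β : ∀ (B : Type u) [CommRing B] [Algebra R B], GL (Fin n) B →* Bˣ)
    (hβ : ∀ (B D : Type u) [CommRing B] [Algebra R B] [CommRing D] [Algebra R D] (φ : B →ₐ[R] D)
      (g : GL (Fin n) B), β D (Matrix.GeneralLinearGroup.map φ.toRingHom g) = Units.map (φ : B →* D) (β B g))
    (B : Type u) [CommRing B] [Algebra R B] (g : GL (Fin n) B)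
    (hg : Matrix.GeneralLinearGroup.det g = 1) : β B g = 1 := by
  open Polynomial in
  let q : B[X] := Polynomial.X * (Polynomial.X - Polynomial.C 1)
  let Cq := Localization.Away q
  let φ : B →ₐ[R] Cq :=
    ((Algebra.ofId (Polynomial B) Cq).restrictScalars R).comp Polynomial.CAlgHom
  have hinj : Function.Injective φ := by
    refine (IsLocalization.injective Cq (M := Submonoid.powers q) ?_).comp Polynomial.C_injective
    rw [Submonoid.powers_le]
    exact Polynomial.Monic.mem_nonZeroDivisors (Polynomial.monic_X.mul (Polynomial.monic_X_sub_C 1))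
  have hu : IsUnit (algebraMap (Polynomial B) Cq Polynomial.X) ∧
      IsUnit (algebraMap (Polynomial B) Cq Polynomial.X - 1) := by
    have h := IsLocalization.Away.algebraMap_isUnit (S := Cq) q
    rw [map_mul, IsUnit.mul_iff, map_sub, map_one, map_one] at h
    exact h
  have h0 : φ (β B g : B) - 1 = 0 := by
    refine eq_zero_of_localization _ fun J hJ => ?_
    let ψ : Cq →ₐ[R] Localization.AtPrime J := IsScalarTower.toAlgHom R Cq _
    let g' := Matrix.GeneralLinearGroup.map (ψ.comp φ).toRingHom g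
    have hdet : g'.1.det = 1 := by
      have := congrArg (fun w : (Localization.AtPrime J)ˣ => (w : Localization.AtPrime J))
        (Matrix.GeneralLinearGroup.map_det (ψ.comp φ).toRingHom g)
      rw [hg, map_one] at this
      exact this
    have hmem := SLCommLib.mem_commutator (hu.1.map ψ).unit
      (by rw [IsUnit.unit_spec]; have := hu.2.map ψ; rwa [map_sub, map_one] at this) g' hdet
    have h1 : β (Localization.AtPrime J) g' = 1 :=
      Abelianization.commutator_subset_ker (β (Localization.AtPrime J)) hmem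
    rw [hβ] at h1
    have h2 := congrArg Units.val h1
    rw [map_sub, map_one]
    exact sub_eq_zero.mpr h2
  refine Units.ext (hinj ?_)
  rw [Units.val_one, map_one]
  exact sub_eq_zero.mp h0

end General

theorem main [ConnectedSpace (PrimeSpectrum R)]
    (r : ℕ) (n : Fin r → ℕ) (hn : ∀ i, 0 < n i)
    (α : ∀ (B : Type u) [CommRing B] [Algebra R B], (∀ i, GL (Fin (n i)) B) →* Bˣ)
    (hα : ∀ (B D : Type u) [CommRing B] [Algebra R B] [CommRing D] [Algebra R D] (φ : B →ₐ[R] D)
      (s : ∀ i, GL (Fin (n i)) B),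
      α D (fun i => Matrix.GeneralLinearGroup.map φ.toRingHom (s i)) = Units.map (φ.toRingHom : B →* D) (α B s)) :
    ∃! m : Fin r → ℤ, ∀ (B : Type u) [CommRing B] [Algebra R B] (s : ∀ i, GL (Fin (n i)) B),
      α B s = ∏ i, Matrix.GeneralLinearGroup.det (s i) ^ (m i) := by
  classical
  let β : ∀ (i : Fin r) (B : Type u) [CommRing B] [Algebra R B], GL (Fin (n i)) B →* Bˣ :=
    fun i B _ _ => (α B).comp (MonoidHom.mulSingle (fun i => GL (Fin (n i)) B) i)
  have hβ : ∀ (i : Fin r) (B D : Type u) [CommRing B] [Algebra R B] [CommRing D] [Algebra R D]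
      (φ : B →ₐ[R] D) (g : GL (Fin (n i)) B),
      β i D (Matrix.GeneralLinearGroup.map φ.toRingHom g) = Units.map (φ : B →* D) (β i B g) := by
    intro i B D _ _ _ _ φ g
    refine Eq.trans ?_ (hα B D φ (Pi.mulSingle i g))
    refine congrArg (α D) (funext fun j => ?_)
    exact (Pi.apply_mulSingle (fun j => ⇑(Matrix.GeneralLinearGroup.map (n := Fin (n j)) φ.toRingHom))
      (fun j => map_one _) i g j).symm
  let j₀ : ∀ i, Fin (n i) := fun i => ⟨0, hn i⟩
  have hχ : ∀ i, ∃ k : ℤ, ∀ (B : Type u) [CommRing B] [Algebra R B] (t : Bˣ),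
      β i B (diagHom (j₀ i) t) = t ^ k := fun i =>
    char_Gm (fun B _ _ => (β i B).comp (diagHom (j₀ i))) (fun B D _ _ _ _ φ t => by
      simp only [MonoidHom.comp_apply]
      rw [← hβ, map_diagHom]
      rfl)
  choose k hk using hχ
  have hform : ∀ (i : Fin r) (B : Type u) [CommRing B] [Algebra R B] (g : GL (Fin (n i)) B),
      β i B g = Matrix.GeneralLinearGroup.det g ^ k i := by
    intro i B _ _ g
    have h1 := eq_one_of_det (β i) (hβ i) B
      ((diagHom (j₀ i) (Matrix.GeneralLinearGroup.det g))⁻¹ * g)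
      (by rw [map_mul, map_inv, det_diagHom, inv_mul_cancel])
    rw [map_mul, map_inv, inv_mul_eq_one] at h1
    rw [← h1, hk]
  refine ⟨k, fun B _ _ s => ?_, fun m hm => funext fun i => ?_⟩
  · let γ : (∀ i, GL (Fin (n i)) B) →* Bˣ :=
      ∏ i, (zpowGroupHom (k i)).comp (Matrix.GeneralLinearGroup.det.comp
        (Pi.evalMonoidHom (fun i => GL (Fin (n i)) B) i))
    have hαγ : α B = γ := MonoidHom.pi_ext fun i x => by
      refine (hform i B x).trans ?_
      simp only [γ, MonoidHom.finsetProd_apply, MonoidHom.comp_apply, Pi.evalMonoidHom_apply,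
        zpowGroupHom_apply]
      rw [Finset.prod_eq_single i (fun b _ hb => by rw [Pi.mulSingle_eq_of_ne hb, map_one, one_zpow])
        (by simp), Pi.mulSingle_eq_same]
    rw [hαγ]
    simp [γ, MonoidHom.finsetProd_apply]
  · obtain ⟨q⟩ := (inferInstance : Nonempty (PrimeSpectrum R))
    have : Nontrivial R := PrimeSpectrum.nontrivial q
    have h1 := hk i R[T;T⁻¹] τ
    have h2 := hm R[T;T⁻¹] (Pi.mulSingle i (diagHom (j₀ i) τ))
    rw [Finset.prod_eq_single i (fun b _ hb => by
      rw [Pi.mulSingle_eq_of_ne hb, map_one, one_zpow]) (by simp), Pi.mulSingle_eq_same, det_diagHom] at h2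
    have h3 := congrArg (fun w : (R[T;T⁻¹])ˣ => (w : R[T;T⁻¹]).coeff (k i)) (h2.symm.trans h1)
    simp only [τ_zpow, LaurentPolynomial.T_apply, if_true] at h3
    by_contra hne
    rw [if_neg hne] at h3
    exact zero_ne_one h3

end GLCharLib
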